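import Cfsg.Agent.Lib.Fischer.S24.D

set_option autoImplicit false
set_option maxRecDepth 100000

namespace Cfsg.Agent.Fi.S24

open Cfsg.Agent.PC

theorem u24000 : Nat.beq (rng f1 (nat_lit 24000) (nat_lit 4000)) (nat_lit 0) = true := by decide +kernel
theorem u28000 : Nat.beq (rng f1 (nat_lit 28000) (nat_lit 3671)) (nat_lit 0) = true := by decide +kernel
theorem v0 : Nat.beq (rng f2 (nat_lit 0) (nat_lit 12000)) (nat_lit 0) = true := by decide +kernel
theorem v12000 : Nat.beq (rng f2 (nat_lit 12000) (nat_lit 12000)) (nat_lit 0) = true := by decide +kernel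
theorem v24000 : Nat.beq (rng f2 (nat_lit 24000) (nat_lit 12000)) (nat_lit 0) = true := by decide +kernel
theorem v36000 : Nat.beq (rng f2 (nat_lit 36000) (nat_lit 12000)) (nat_lit 0) = true := by decide +kernel

end Cfsg.Agent.Fi.S24
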