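import Cfsg.Agent.Lib.Fischer.S24.D

set_option autoImplicit false
set_option maxRecDepth 100000

namespace Cfsg.Agent.Fi.S24

open Cfsg.Agent.PC

theorem v48000 : Nat.beq (rng f2 (nat_lit 48000) (nat_lit 12000)) (nat_lit 0) = true := by decide +kernel
theorem v60000 : Nat.beq (rng f2 (nat_lit 60000) (nat_lit 12000)) (nat_lit 0) = true := by decide +kernel
theorem v72000 : Nat.beq (rng f2 (nat_lit 72000) (nat_lit 12000)) (nat_lit 0) = true := by decide +kernel
theorem v84000 : Nat.beq (rng f2 (nat_lit 84000) (nat_lit 12000)) (nat_lit 0) = true := by decide +kernel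
theorem v96000 : Nat.beq (rng f2 (nat_lit 96000) (nat_lit 12000)) (nat_lit 0) = true := by decide +kernel
theorem v108000 : Nat.beq (rng f2 (nat_lit 108000) (nat_lit 12000)) (nat_lit 0) = true := by decide +kernel

end Cfsg.Agent.Fi.S24
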