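import Cfsg.Agent.Lib.Fischer.S24.D

set_option autoImplicit false
set_option maxRecDepth 100000

namespace Cfsg.Agent.Fi.S24

open Cfsg.Agent.PC

theorem v120000 : Nat.beq (rng f2 (nat_lit 120000) (nat_lit 12000)) (nat_lit 0) = true := by decide +kernel
theorem v132000 : Nat.beq (rng f2 (nat_lit 132000) (nat_lit 12000)) (nat_lit 0) = true := by decide +kernel
theorem v144000 : Nat.beq (rng f2 (nat_lit 144000) (nat_lit 12000)) (nat_lit 0) = true := by decide +kernel
theorem v156000 : Nat.beq (rng f2 (nat_lit 156000) (nat_lit 12000)) (nat_lit 0) = true := by decide +kernel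
theorem v168000 : Nat.beq (rng f2 (nat_lit 168000) (nat_lit 12000)) (nat_lit 0) = true := by decide +kernel
theorem v180000 : Nat.beq (rng f2 (nat_lit 180000) (nat_lit 12000)) (nat_lit 0) = true := by decide +kernel

end Cfsg.Agent.Fi.S24
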