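import Cfsg.Agent.Lib.Fischer.S24.D

set_option autoImplicit false
set_option maxRecDepth 100000

namespace Cfsg.Agent.Fi.S24

open Cfsg.Agent.PC

theorem v192000 : Nat.beq (rng f2 (nat_lit 192000) (nat_lit 12000)) (nat_lit 0) = true := by decide +kernel
theorem v204000 : Nat.beq (rng f2 (nat_lit 204000) (nat_lit 12000)) (nat_lit 0) = true := by decide +kernel
theorem v216000 : Nat.beq (rng f2 (nat_lit 216000) (nat_lit 12000)) (nat_lit 0) = true := by decide +kernel
theorem v228000 : Nat.beq (rng f2 (nat_lit 228000) (nat_lit 12000)) (nat_lit 0) = true := by decide +kernel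
theorem v240000 : Nat.beq (rng f2 (nat_lit 240000) (nat_lit 12000)) (nat_lit 0) = true := by decide +kernel
theorem v252000 : Nat.beq (rng f2 (nat_lit 252000) (nat_lit 12000)) (nat_lit 0) = true := by decide +kernel

end Cfsg.Agent.Fi.S24
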