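import Cfsg.Agent.Lib.Fischer.S24.R0
import Cfsg.Agent.Lib.Fischer.S24.R1
import Cfsg.Agent.Lib.Fischer.S24.R2
import Cfsg.Agent.Lib.Fischer.S24.R3
import Cfsg.Agent.Lib.Fischer.S24.R4
import Cfsg.Agent.Lib.Fischer.S24.R5
import Cfsg.Agent.Lib.Fischer.C24.Cl

set_option autoImplicit false
set_option maxRecDepth 100000

namespace Cfsg.Agent.Fi.S24

open Cfsg.Agent.PC

theorem h1 : ∀ i < 31671, f1 i = 0 := by
  have h := zero_lt_zero f1
  have h := zero_lt_add (a := (nat_lit 0)) (n := (nat_lit 4000)) (b := (nat_lit 4000)) h u0 rfl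
  have h := zero_lt_add (a := (nat_lit 4000)) (n := (nat_lit 4000)) (b := (nat_lit 8000)) h u4000 rfl
  have h := zero_lt_add (a := (nat_lit 8000)) (n := (nat_lit 4000)) (b := (nat_lit 12000)) h u8000 rfl
  have h := zero_lt_add (a := (nat_lit 12000)) (n := (nat_lit 4000)) (b := (nat_lit 16000)) h u12000 rfl
  have h := zero_lt_add (a := (nat_lit 16000)) (n := (nat_lit 4000)) (b := (nat_lit 20000)) h u16000 rfl
  have h := zero_lt_add (a := (nat_lit 20000)) (n := (nat_lit 4000)) (b := (nat_lit 24000)) h u20000 rfl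
  have h := zero_lt_add (a := (nat_lit 24000)) (n := (nat_lit 4000)) (b := (nat_lit 28000)) h u24000 rfl
  have h := zero_lt_add (a := (nat_lit 28000)) (n := (nat_lit 3671)) (b := (nat_lit 31671)) h u28000 rfl
  exact h
theorem h2 : ∀ i < 306936, f2 i = 0 := by
  have h := zero_lt_zero f2
  have h := zero_lt_add (a := (nat_lit 0)) (n := (nat_lit 12000)) (b := (nat_lit 12000)) h v0 rfl
  have h := zero_lt_add (a := (nat_lit 12000)) (n := (nat_lit 12000)) (b := (nat_lit 24000)) h v12000 rfl
  have h := zero_lt_add (a := (nat_lit 24000)) (n := (nat_lit 12000)) (b := (nat_lit 36000)) h v24000 rfl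
  have h := zero_lt_add (a := (nat_lit 36000)) (n := (nat_lit 12000)) (b := (nat_lit 48000)) h v36000 rfl
  have h := zero_lt_add (a := (nat_lit 48000)) (n := (nat_lit 12000)) (b := (nat_lit 60000)) h v48000 rfl
  have h := zero_lt_add (a := (nat_lit 60000)) (n := (nat_lit 12000)) (b := (nat_lit 72000)) h v60000 rfl
  have h := zero_lt_add (a := (nat_lit 72000)) (n := (nat_lit 12000)) (b := (nat_lit 84000)) h v72000 rfl
  have h := zero_lt_add (a := (nat_lit 84000)) (n := (nat_lit 12000)) (b := (nat_lit 96000)) h v84000 rfl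
  have h := zero_lt_add (a := (nat_lit 96000)) (n := (nat_lit 12000)) (b := (nat_lit 108000)) h v96000 rfl
  have h := zero_lt_add (a := (nat_lit 108000)) (n := (nat_lit 12000)) (b := (nat_lit 120000)) h v108000 rfl
  have h := zero_lt_add (a := (nat_lit 120000)) (n := (nat_lit 12000)) (b := (nat_lit 132000)) h v120000 rfl
  have h := zero_lt_add (a := (nat_lit 132000)) (n := (nat_lit 12000)) (b := (nat_lit 144000)) h v132000 rfl
  have h := zero_lt_add (a := (nat_lit 144000)) (n := (nat_lit 12000)) (b := (nat_lit 156000)) h v144000 rfl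
  have h := zero_lt_add (a := (nat_lit 156000)) (n := (nat_lit 12000)) (b := (nat_lit 168000)) h v156000 rfl
  have h := zero_lt_add (a := (nat_lit 168000)) (n := (nat_lit 12000)) (b := (nat_lit 180000)) h v168000 rfl
  have h := zero_lt_add (a := (nat_lit 180000)) (n := (nat_lit 12000)) (b := (nat_lit 192000)) h v180000 rfl
  have h := zero_lt_add (a := (nat_lit 192000)) (n := (nat_lit 12000)) (b := (nat_lit 204000)) h v192000 rfl
  have h := zero_lt_add (a := (nat_lit 204000)) (n := (nat_lit 12000)) (b := (nat_lit 216000)) h v204000 rfl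
  have h := zero_lt_add (a := (nat_lit 216000)) (n := (nat_lit 12000)) (b := (nat_lit 228000)) h v216000 rfl
  have h := zero_lt_add (a := (nat_lit 228000)) (n := (nat_lit 12000)) (b := (nat_lit 240000)) h v228000 rfl
  have h := zero_lt_add (a := (nat_lit 240000)) (n := (nat_lit 12000)) (b := (nat_lit 252000)) h v240000 rfl
  have h := zero_lt_add (a := (nat_lit 252000)) (n := (nat_lit 12000)) (b := (nat_lit 264000)) h v252000 rfl
  have h := zero_lt_add (a := (nat_lit 264000)) (n := (nat_lit 12000)) (b := (nat_lit 276000)) h v264000 rfl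
  have h := zero_lt_add (a := (nat_lit 276000)) (n := (nat_lit 12000)) (b := (nat_lit 288000)) h v276000 rfl
  have h := zero_lt_add (a := (nat_lit 288000)) (n := (nat_lit 12000)) (b := (nat_lit 300000)) h v288000 rfl
  have h := zero_lt_add (a := (nat_lit 300000)) (n := (nat_lit 6936)) (b := (nat_lit 306936)) h v300000 rfl
  exact h
theorem rels_eq : C24.rels = relL T P Sf 10 RD a1 a2 a3 AR AB := by decide +kernel
theorem sm : smE T C24.T P P2 V Sf 31671 306936 10 49 0 0 Wl Q1 Q3 = 0 := by decide +kernel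
theorem re : relE T P V Sf 31671 10 49 B RD a1 a2 a3 AR AB Q2 = 0 := by decide +kernel
theorem ok.{u} : StepOK.{u} T C24.T P P2 V V2 Sf 31671 306936 10 49 49 B :=
  ⟨dsc_of fun i hi => (add_eq_zero' (add_eq_zero' (h1 i hi)).1).1,
    ⟨0, 0, Wl, Q1, Q2, Q3, RD, a1, a2, a3, AR, AB, sm, fun i hi => (add_eq_zero' (add_eq_zero' (h1 i hi)).1).2, re,
      fun i hi => (add_eq_zero' (add_eq_zero' (h1 i hi)).2).1, rels_eq ▸ C24.closes, h2⟩,
    C24.T_inv, fun i hi => (add_eq_zero' (add_eq_zero' (h1 i hi)).2).2⟩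

end Cfsg.Agent.Fi.S24
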